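import Cfsg.Agent.H69.J4.FromCentralizer
import Cfsg.Agent.H42.J4.Cent
import Cfsg.Agent.S1265
import Cfsg.Prelude.Def_MonsterType

/-!
The extraspecial centraliser setting with `N/Q` of order three, not complemented, and quotient
`Aut M22` gives a group of Janko-four type.
-/

set_option autoImplicit false

set_option linter.style.haveILetI false

namespace H22.J4

open Subgroup
open scoped commutatorElement
open H25.M22 (G22)

theorem commute_aut_cyclic {A : Type*} [Group A] [IsCyclic A] (s t : MulAut A) : Commute s t := by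
  obtain ⟨a, ha⟩ := MonoidHom.map_cyclic s.toMonoidHom
  obtain ⟨b, hb⟩ := MonoidHom.map_cyclic t.toMonoidHom
  refine MulEquiv.ext fun g => ?_
  show s (t g) = t (s g)
  have e1 : ∀ x, s x = x ^ a := ha
  have e2 : ∀ x, t x = x ^ b := hb
  rw [e1, e2, e1, e2, ← zpow_mul, ← zpow_mul, mul_comm]

/-- The middle group of the centraliser, with the properties used in the glue. -/
theorem exists_middle {C : Type*} [Group C] [Finite C] (Q N : Subgroup C) [Q.Normal] [N.Normal]
    (hQN : Q ≤ N) (hN3 : Nat.card N = 3 * Nat.card Q)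
    (hns : ∀ K : Subgroup C, K ⊓ N = Q → K ⊔ N = ⊤ → False)
    (e : C ⧸ N ≃* MulAut G22) :
    ∃ M : Subgroup C, M.Normal ∧ N ≤ M ∧ M.index = 2 ∧ ⁅M, N⁆ ≤ Q ∧ M ≤ ⁅M, M⁆ ⊔ Q ∧
      (∀ c : C, (∀ m ∈ M, c * m * c⁻¹ * m⁻¹ ∈ N) → c ∈ M) ∧
      Nonempty (↥M ⧸ N.subgroupOf M ≃* G22) := by
  let φ : C →* MulAut G22 := e.toMonoidHom.comp (QuotientGroup.mk' N)
  have hφs : Function.Surjective φ :=
    e.surjective.comp (QuotientGroup.mk'_surjective _)
  have hφk : φ.ker = N := by
    ext c
    rw [MonoidHom.mem_ker]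
    show e (QuotientGroup.mk c) = 1 ↔ _
    rw [map_eq_one_iff e e.injective, QuotientGroup.eq_one_iff]
  let I : Subgroup (MulAut G22) := (MulAut.conj : G22 →* MulAut G22).range
  haveI hIn : I.Normal := by
    refine ⟨?_⟩
    rintro _ ⟨x, rfl⟩ f
    refine ⟨f x, MulEquiv.ext fun y => ?_⟩
    show f x * y * (f x)⁻¹ = f (x * f.symm y * x⁻¹)
    rw [map_mul, map_mul, map_inv, MulEquiv.apply_symm_apply]
  let M : Subgroup C := I.comap φ
  have hMn : M.Normal := Subgroup.Normal.comap hIn φ
  haveI := hMn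
  have hNM : N ≤ M := by rw [← hφk]; exact Subgroup.ker_le_comap φ I
  have hM : M.index = 2 := by
    show (I.comap φ).index = 2
    rw [Subgroup.index_comap_of_surjective I hφs]
    exact H97.MOut.card_out_M22
  have hMmap : M.map φ = I := Subgroup.map_comap_eq_self_of_surjective hφs I
  have hMN : M ≤ ⁅M, M⁆ ⊔ N := by
    have h1 : (⁅M, M⁆).map φ = I := by
      rw [map_commutator, hMmap]
      show ⁅I, I⁆ = I
      have h2 : I = (⊤ : Subgroup G22).map (MulAut.conj : G22 →* MulAut G22) :=
        MonoidHom.range_eq_map _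
      rw [h2, ← map_commutator, ← _root_.commutator_def, H42.J4.perfect22]
    intro m hm
    have hm' : φ m ∈ (⁅M, M⁆).map φ := h1.symm ▸ hm
    obtain ⟨k, hk, hkm⟩ := hm'
    have hd : k⁻¹ * m ∈ N := by
      rw [← hφk, MonoidHom.mem_ker, map_mul, map_inv, hkm, inv_mul_cancel]
    rw [show m = k * (k⁻¹ * m) by group]
    exact mul_mem_sup hk hd
  have hQi : (Q.subgroupOf N).index = 3 := by
    have h1 := (Q.subgroupOf N).card_mul_index
    rw [Nat.card_congr (subgroupOfEquivOfLe hQN).toEquiv, hN3, mul_comm 3] at h1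
    exact Nat.eq_of_mul_eq_mul_left Nat.card_pos h1
  refine ⟨M, hMn, hNM, hM, ?_, ?_, ?_, ?_⟩
  · -- `M` acts trivially on `N/Q`
    let π := QuotientGroup.mk' Q
    let B : Subgroup (C ⧸ Q) := N.map π
    haveI : B.Normal := Subgroup.Normal.map inferInstance π (QuotientGroup.mk'_surjective Q)
    haveI : Fact (Nat.Prime 3) := ⟨Nat.prime_three⟩
    have hB : Nat.card B = 3 := by
      have h1 := Subgroup.relIndex_map_map (f := π) (H := Q) (K := N)
      rw [show Q.map π = ⊥ from by rw [Subgroup.map_eq_bot_iff, QuotientGroup.ker_mk'],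
        QuotientGroup.ker_mk', sup_idem, sup_eq_left.2 hQN, Subgroup.relIndex_bot_left] at h1
      exact h1.trans hQi
    haveI : IsCyclic B := isCyclic_of_prime_card hB
    let A : C ⧸ Q →* MulAut B := MulAut.conjNormal
    have hab : ∀ b ∈ B, A b = 1 := fun b hb => by
      refine MulEquiv.ext fun x => Subtype.ext ?_
      show b * (x : C ⧸ Q) * b⁻¹ = x
      letI := IsCyclic.commGroup (α := B)
      have := congrArg Subtype.val (mul_comm (⟨b, hb⟩ : B) x)
      simp only [Subgroup.coe_mul] at this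
      rw [this, mul_inv_cancel_right]
    have hC : ∀ m ∈ M, A (π m) = 1 := by
      have h1 : ⁅M, M⁆ ⊔ N ≤ (A.comp π).ker := by
        refine sup_le ?_ ?_
        · rw [commutator_le]
          intro x _ y _
          rw [MonoidHom.mem_ker, map_commutatorElement, commutatorElement_eq_one_iff_commute]
          exact commute_aut_cyclic _ _
        · intro n hn
          exact hab _ (mem_map_of_mem π hn)
      exact fun m hm => h1 (hMN hm)
    rw [commutator_le]
    intro m hm n hn
    rw [← QuotientGroup.eq_one_iff]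
    show π ⁅m, n⁆ = 1
    rw [map_commutatorElement, commutatorElement_eq_one_iff_mul_comm]
    have h2 := congrArg Subtype.val
      (DFunLike.congr_fun (hC m hm) (⟨π n, mem_map_of_mem π hn⟩ : B))
    change π m * π n * (π m)⁻¹ = π n at h2
    exact mul_inv_eq_iff_eq_mul.1 h2
  · -- perfect modulo `Q`
    let L : Subgroup C := ⁅M, M⁆ ⊔ Q
    haveI : L.Normal := Subgroup.sup_normal _ _
    by_contra hne
    have hLN : L ⊓ N = Q := by
      refine le_antisymm ?_ (le_inf le_sup_right hQN)
      by_contra hlt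
      have h1 : Q.relIndex (L ⊓ N) ∣ 3 := ⟨(L ⊓ N).relIndex N, by
        rw [Subgroup.relIndex_mul_relIndex _ _ _ (le_inf le_sup_right hQN) inf_le_right]
        exact hQi.symm⟩
      rcases (Nat.dvd_prime Nat.prime_three).1 h1 with h | h
      · exact hlt (Subgroup.relIndex_eq_one.1 h)
      · have h2 : (L ⊓ N).relIndex N = 1 := by
          have h3 := Subgroup.relIndex_mul_relIndex Q (L ⊓ N) N (le_inf le_sup_right hQN) inf_le_right
          rw [h, show Q.relIndex N = 3 from hQi] at h3
          omega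
        exact hne (hMN.trans (sup_le le_sup_left ((Subgroup.relIndex_eq_one.1 h2).trans inf_le_left)))
    haveI : Fact (Nat.Prime 2) := ⟨Nat.prime_two⟩
    obtain ⟨S⟩ := (inferInstance : Nonempty (Sylow 2 C))
    let K : Subgroup C := L ⊔ (S : Subgroup C)
    refine hns K (le_antisymm ?_ (le_inf (le_sup_right.trans le_sup_left) hQN)) ?_
    · rintro x ⟨hxK, hxN⟩
      rw [← hLN]
      refine ⟨?_, hxN⟩
      refine (QuotientGroup.eq_one_iff (N := L) x).1 ?_
      have hmem : QuotientGroup.mk' L x ∈ (S : Subgroup C).map (QuotientGroup.mk' L) := by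
        have := mem_map_of_mem (QuotientGroup.mk' L) hxK
        rwa [Subgroup.map_sup, (Subgroup.map_eq_bot_iff _).2 (QuotientGroup.ker_mk' L).ge,
          bot_sup_eq] at this
      have h3 : (QuotientGroup.mk' L x) ^ 3 = 1 := by
        rw [← map_pow]
        refine (QuotientGroup.eq_one_iff _).2 (le_sup_right (a := ⁅M, M⁆) ?_)
        have := Subgroup.pow_index_mem (Q.subgroupOf N) (⟨x, hxN⟩ : N)
        rw [hQi] at this
        exact this
      obtain ⟨k, hk⟩ := (S.2.map (QuotientGroup.mk' L)) ⟨_, hmem⟩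
      have hk' : (QuotientGroup.mk' L x) ^ (2 ^ k) = 1 := congrArg Subtype.val hk
      exact orderOf_eq_one_iff.1 (Nat.eq_one_of_dvd_coprimes
        (Nat.Coprime.pow_left k (by norm_num : Nat.Coprime 2 3))
        (orderOf_dvd_of_pow_eq_one hk') (orderOf_dvd_of_pow_eq_one h3))
    · refine Subgroup.index_eq_one.1 ?_
      have hle : M ≤ K ⊔ N := hMN.trans
        (sup_le_sup_right (le_sup_left.trans le_sup_left) N)
      have h1 : (K ⊔ N).index ∣ 2 := hM ▸ Subgroup.index_dvd_of_le hle
      have h2 : (K ⊔ N).index ∣ (S : Subgroup C).index :=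
        Subgroup.index_dvd_of_le (le_sup_right.trans le_sup_left)
      rcases (Nat.dvd_prime Nat.prime_two).1 h1 with h | h
      · exact h
      · rw [h] at h2
        exact absurd h2 S.not_dvd_index
  · intro c hc
    refine hNM ?_
    rw [← hφk, MonoidHom.mem_ker]
    refine MulEquiv.ext fun y => ?_
    obtain ⟨m, hm⟩ := hφs (MulAut.conj y)
    have hmM : m ∈ M := ⟨y, hm.symm⟩
    have h1 : φ (c * m * c⁻¹ * m⁻¹) = 1 := by
      rw [← MonoidHom.mem_ker, hφk]; exact hc m hmM
    rw [map_mul, map_mul, map_mul, map_inv, map_inv, hm, mul_inv_eq_one] at h1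
    have h2 : MulAut.conj (φ c y) = MulAut.conj y := by
      rw [← h1]
      refine MulEquiv.ext fun x => ?_
      show φ c y * x * (φ c y)⁻¹ = φ c (y * (φ c).symm x * y⁻¹)
      rw [map_mul, map_mul, map_inv, MulEquiv.apply_symm_apply]
    exact H42.J4.conj22_injective h2
  · let ι : I ≃* G22 := (MonoidHom.ofInjective H42.J4.conj22_injective).symm
    let π : ↥M →* G22 := ι.toMonoidHom.comp (φ.subgroupComap I)
    have hπs : Function.Surjective π :=
      ι.surjective.comp (MonoidHom.subgroupComap_surjective_of_surjective φ I hφs)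
    have hπk : π.ker = N.subgroupOf M := by
      ext m
      rw [MonoidHom.mem_ker, mem_subgroupOf, ← hφk, MonoidHom.mem_ker]
      show ι (φ.subgroupComap I m) = 1 ↔ _
      rw [map_eq_one_iff ι ι.injective, Subtype.ext_iff]
      rfl
    exact ⟨(QuotientGroup.quotientMulEquivOfEq hπk.symm).trans
      (QuotientGroup.quotientKerEquivOfSurjective π hπs)⟩

/-- The setting of the statement gives Janko-four type. -/
theorem type_of_setting {G : Type*} [Group G] [Finite G] (τ : G)
    (Q N : Subgroup ↥(Subgroup.centralizer ({τ} : Set G))) [Q.Normal] [N.Normal]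
    (hS : Cfsg.IsExtraspecialCentralizerSetting τ Q 6)
    (hQN : Q ≤ N) (hN3 : Nat.card ↥N = 3 * Nat.card ↥Q)
    (hns : ∀ K : Subgroup ↥(Subgroup.centralizer ({τ} : Set G)), K ⊓ N = Q → K ⊔ N = ⊤ → False)
    (hAut : Nonempty (↥(Subgroup.centralizer ({τ} : Set G)) ⧸ N ≃* MulAut ↥Cfsg.Spor.M22)) :
    Cfsg.IsOfJankoFourTypeAt τ := by
  obtain ⟨hτ, hF, hQ, hcard, -⟩ := hS
  obtain ⟨e⟩ := hAut
  obtain ⟨M, hMn, hNM, hM, hcent, hperf, hout, hM22⟩ :=
    exists_middle Q N hQN hN3 hns e
  haveI := hMn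
  refine Cfsg.Agent.H69.J4.CentGlue.type_of_centralizer τ hτ Q N M hQN hNM hM hQ
    (by rw [hcard]) hN3 hcent hperf ?_ hout hM22
  have h := Cfsg.Agent.S1265.result (G := ↥(Subgroup.centralizer ({τ} : Set G)))
  rw [hF] at h
  exact h

end H22.J4
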