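import Cfsg.Agent.H22.J4.Extra
import Cfsg.Agent.H69.J4.Surjection

/-!
The extraspecial setting with quotient `Aut M22` over an uncomplemented group of order three
identifies the fourth Janko group, given a homomorphism of the presented group into `G`.
-/

set_option autoImplicit false

namespace H22.J4

/-- The recognition from the setting, relative to the homomorphism. -/
theorem iso_of_setting {G : Type*} [Group G] [Finite G] [IsSimpleGroup G]
    (hG : ¬ IsMulCommutative G) (τ : G)
    (Q N : Subgroup ↥(Subgroup.centralizer ({τ} : Set G))) [Q.Normal] [N.Normal]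
    (hS : Cfsg.IsExtraspecialCentralizerSetting τ Q 6)
    (hQN : Q ≤ N) (hN3 : Nat.card ↥N = 3 * Nat.card ↥Q)
    (hns : ∀ K : Subgroup ↥(Subgroup.centralizer ({τ} : Set G)), K ⊓ N = Q → K ⊔ N = ⊤ → False)
    (hAut : Nonempty (↥(Subgroup.centralizer ({τ} : Set G)) ⧸ N ≃* MulAut ↥Cfsg.Spor.M22))
    (hsurj : Cfsg.IsOfJankoFourType G → Cfsg.Agent.H69.J4.SurjData G) :
    Cfsg.Spor.IsoJ4 G :=
  have hJ : Cfsg.IsOfJankoFourType G := ⟨τ, type_of_setting τ Q N hS hQN hN3 hns hAut⟩
  (Cfsg.Agent.H69.J4.isoJ4_of_surj hG hJ (hsurj hJ)).1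

end H22.J4
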